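import Groth.Agent.L05.TensorBranch.Norm
import Groth.Agent.L23.GeomUnibranchSH
import Groth.Agent.L05.Henselization.StrictUniq
import Groth.Agent.L05.StrictGalois.Branch
import Mathlib.RingTheory.Ideal.MinimalPrime.Localization
import Mathlib.RingTheory.Flat.FaithfullyFlat.Algebra

/-!
# Minimal primes of strict henselizations of tensor products
-/

set_option autoImplicit false
set_option maxSynthPendingDepth 3
set_option linter.style.haveILetI false

universe u

open IsLocalRing TensorProduct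

namespace Groth.L05.TensorBranch

variable {k : Type u} [Field k] [IsAlgClosed k]
  (A B : Type u) [CommRing A] [CommRing B] [HenselianLocalRing A] [HenselianLocalRing B]
  [Algebra k A] [Algebra k B]

theorem ker_χ (p : Ideal A) [p.IsPrime] (q : Ideal B) [q.IsPrime] :
    RingHom.ker (χ (k := k) A p B q) =
      p.map (Algebra.TensorProduct.includeLeft : A →ₐ[k] A ⊗[k] B) ⊔
        q.map (Algebra.TensorProduct.includeRight : B →ₐ[k] A ⊗[k] B) := by
  have h : χ (k := k) A p B q = (Algebra.TensorProduct.map (IsScalarTower.toAlgHom k (A ⧸ p) (Nm A p))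
      (IsScalarTower.toAlgHom k (B ⧸ q) (Nm B q))).comp
      (Algebra.TensorProduct.map (Ideal.Quotient.mkₐ k p) (Ideal.Quotient.mkₐ k q)) := by
    ext <;> simp [χ, toNm]
  have hinj : Function.Injective (Algebra.TensorProduct.map (IsScalarTower.toAlgHom k (A ⧸ p) (Nm A p))
      (IsScalarTower.toAlgHom k (B ⧸ q) (Nm B q))) := by
    have h1 : Function.Injective (IsScalarTower.toAlgHom k (A ⧸ p) (Nm A p)).toLinearMap :=
      fun a b hab => IsFractionRing.injective (A ⧸ p) (FractionRing (A ⧸ p)) (congrArg Subtype.val hab)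
    have h2 : Function.Injective (IsScalarTower.toAlgHom k (B ⧸ q) (Nm B q)).toLinearMap :=
      fun a b hab => IsFractionRing.injective (B ⧸ q) (FractionRing (B ⧸ q)) (congrArg Subtype.val hab)
    have e : (Algebra.TensorProduct.map (IsScalarTower.toAlgHom k (A ⧸ p) (Nm A p))
        (IsScalarTower.toAlgHom k (B ⧸ q) (Nm B q))).toLinearMap =
        (LinearMap.rTensor (Nm B q) (IsScalarTower.toAlgHom k (A ⧸ p) (Nm A p)).toLinearMap) ∘ₗ
          (LinearMap.lTensor (A ⧸ p) (IsScalarTower.toAlgHom k (B ⧸ q) (Nm B q)).toLinearMap) :=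
      TensorProduct.ext' fun a b => by simp
    have : Function.Injective (Algebra.TensorProduct.map (IsScalarTower.toAlgHom k (A ⧸ p) (Nm A p))
        (IsScalarTower.toAlgHom k (B ⧸ q) (Nm B q))).toLinearMap := by
      rw [e]
      exact (Module.Flat.rTensor_preserves_injective_linearMap _ h1).comp
        (Module.Flat.lTensor_preserves_injective_linearMap _ h2)
    exact this
  rw [h]
  refine Eq.trans ?_ ((Algebra.TensorProduct.map_ker (Ideal.Quotient.mkₐ k p) (Ideal.Quotient.mkₐ k q)
    Ideal.Quotient.mk_surjective Ideal.Quotient.mk_surjective).trans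
      (congrArg₂ (fun I J => Ideal.map _ I ⊔ Ideal.map _ J) (Ideal.Quotient.mkₐ_ker k p) (Ideal.Quotient.mkₐ_ker k q)))
  ext x
  exact map_eq_zero_iff _ hinj

theorem comap_includeLeft (p : Ideal A) [p.IsPrime] (q : Ideal B) [q.IsPrime] :
    (RingHom.ker (χ (k := k) A p B q)).comap (Algebra.TensorProduct.includeLeft : A →ₐ[k] A ⊗[k] B) = p := by
  ext a
  show χ (k := k) A p B q (a ⊗ₜ 1) = 0 ↔ _
  conv_rhs => rw [← ker_toNm (k := k) A p]
  show _ ↔ toNm (k := k) A p a = 0
  simp only [χ, Algebra.TensorProduct.map_tmul, map_one]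
  exact map_eq_zero_iff (Algebra.TensorProduct.includeLeft : Nm A p →ₐ[k] Nm A p ⊗[k] Nm B q)
    (Algebra.TensorProduct.includeLeft_injective (S := k) (algebraMap k (Nm B q)).injective)

theorem comap_includeRight (p : Ideal A) [p.IsPrime] (q : Ideal B) [q.IsPrime] :
    (RingHom.ker (χ (k := k) A p B q)).comap (Algebra.TensorProduct.includeRight : B →ₐ[k] A ⊗[k] B) = q := by
  ext a
  show χ (k := k) A p B q (1 ⊗ₜ a) = 0 ↔ _
  conv_rhs => rw [← ker_toNm (k := k) B q]
  show _ ↔ toNm (k := k) B q a = 0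
  simp only [χ, Algebra.TensorProduct.map_tmul, map_one]
  exact map_eq_zero_iff (Algebra.TensorProduct.includeRight : Nm B q →ₐ[k] Nm A p ⊗[k] Nm B q)
    (Algebra.TensorProduct.includeRight_injective (algebraMap k (Nm A p)).injective)

theorem minimalPrimes_includeLeft {Q : Ideal (A ⊗[k] B)} (hQ : Q ∈ minimalPrimes (A ⊗[k] B)) :
    Q.comap (Algebra.TensorProduct.includeLeft : A →ₐ[k] A ⊗[k] B) ∈ minimalPrimes A :=
  Groth.L05.StrictGalois.comap_mem_minimalPrimes_of_flat (R := A) hQ

theorem minimalPrimes_includeRight {Q : Ideal (A ⊗[k] B)} (hQ : Q ∈ minimalPrimes (A ⊗[k] B)) :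
    Q.comap (Algebra.TensorProduct.includeRight : B →ₐ[k] A ⊗[k] B) ∈ minimalPrimes B := by
  letI : Algebra B (A ⊗[k] B) := Algebra.TensorProduct.rightAlgebra
  haveI : Module.Flat B (A ⊗[k] B) :=
    Module.Flat.of_linearEquiv (Algebra.TensorProduct.commRight k B A).symm.toLinearEquiv
  exact Groth.L05.StrictGalois.comap_mem_minimalPrimes_of_flat (R := B) hQ

variable (hA : Function.Bijective ((residue A).comp (algebraMap k A)))
  (hB : Function.Bijective ((residue B).comp (algebraMap k B)))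
  (𝔪 : Ideal (A ⊗[k] B)) [𝔪.IsPrime]
  (hl : (maximalIdeal A).map (Algebra.TensorProduct.includeLeft : A →ₐ[k] A ⊗[k] B) ≤ 𝔪)
  (hr : (maximalIdeal B).map (Algebra.TensorProduct.includeRight : B →ₐ[k] A ⊗[k] B) ≤ 𝔪)

include hA hB hl hr in
theorem bijOn (C : Type u) [CommRing C] [IsLocalRing C] [Algebra (Localization.AtPrime 𝔪) C]
    [IsLocalHom (algebraMap (Localization.AtPrime 𝔪) C)]
    [Hensel.IsStrictHenselization (Localization.AtPrime 𝔪) C] :
    Set.BijOn
      (fun 𝔯 : Ideal C =>
        (𝔯.comap ((algebraMap (Localization.AtPrime 𝔪) C).comp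
            ((algebraMap (A ⊗[k] B) (Localization.AtPrime 𝔪)).comp
              (Algebra.TensorProduct.includeLeft : A →ₐ[k] A ⊗[k] B).toRingHom)),
          𝔯.comap ((algebraMap (Localization.AtPrime 𝔪) C).comp
            ((algebraMap (A ⊗[k] B) (Localization.AtPrime 𝔪)).comp
              (Algebra.TensorProduct.includeRight : B →ₐ[k] A ⊗[k] B).toRingHom))))
      (minimalPrimes C) (minimalPrimes A ×ˢ minimalPrimes B) := by
  let L := Localization.AtPrime 𝔪
  haveI := Groth.L05.Henselization.flat_of_isStrictHenselization L C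
  haveI : Module.FaithfullyFlat L C := Groth.L05.Henselization.faithfullyFlat_of_flat_local
  letI : Algebra (A ⊗[k] B) C := ((algebraMap L C).comp (algebraMap (A ⊗[k] B) L)).toAlgebra
  haveI : IsScalarTower (A ⊗[k] B) L C := IsScalarTower.of_algebraMap_eq' rfl
  haveI : Module.Flat (A ⊗[k] B) C := Module.Flat.trans (A ⊗[k] B) L C
  have hmin : ∀ r ∈ minimalPrimes C, r.comap (algebraMap (A ⊗[k] B) C) ∈ minimalPrimes (A ⊗[k] B) :=
    fun r hr' => Groth.L05.StrictGalois.comap_mem_minimalPrimes_of_flat hr'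
  let eL := (Algebra.TensorProduct.includeLeft : A →ₐ[k] A ⊗[k] B)
  let eR := (Algebra.TensorProduct.includeRight : B →ₐ[k] A ⊗[k] B)
  have hker : ∀ (p : Ideal A) [p.IsPrime] (q : Ideal B) [q.IsPrime], RingHom.ker (χ (k := k) A p B q) ≤ 𝔪 :=
    fun p _ q _ => by
      rw [ker_χ]
      exact sup_le ((Ideal.map_mono (le_maximalIdeal (Ideal.IsPrime.ne_top inferInstance))).trans hl)
        ((Ideal.map_mono (le_maximalIdeal (Ideal.IsPrime.ne_top inferInstance))).trans hr)
  refine ⟨fun r hr' => ⟨minimalPrimes_includeLeft A B (hmin r hr'), minimalPrimes_includeRight A B (hmin r hr')⟩,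
    fun r hr₁ r' hr₂ heq => ?_, ?_⟩
  · obtain ⟨e1, e2⟩ := Prod.ext_iff.mp heq
    haveI := hr₁.1.1
    haveI := hr₂.1.1
    let p := (r.comap (algebraMap (A ⊗[k] B) C)).comap eL
    let q := (r.comap (algebraMap (A ⊗[k] B) C)).comap eR
    haveI := isDomain_target (k := k) A p B q
    haveI : (RingHom.ker (χ (k := k) A p B q)).IsPrime := RingHom.ker_isPrime _
    have key : ∀ (s : Ideal C), s ∈ minimalPrimes C → (s.comap (algebraMap (A ⊗[k] B) C)).comap eL = p →
        (s.comap (algebraMap (A ⊗[k] B) C)).comap eR = q →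
        s.comap (algebraMap (A ⊗[k] B) C) = RingHom.ker (χ (k := k) A p B q) := fun s hs h1 h2 => by
      have hle : RingHom.ker (χ (k := k) A p B q) ≤ s.comap (algebraMap (A ⊗[k] B) C) := by
        rw [ker_χ]
        exact sup_le (Ideal.map_le_iff_le_comap.mpr h1.ge) (Ideal.map_le_iff_le_comap.mpr h2.ge)
      exact le_antisymm ((hmin s hs).2 ⟨inferInstance, bot_le⟩ hle) hle
    let P := r.comap (algebraMap L C)
    have hP : P.comap (algebraMap (A ⊗[k] B) L) = RingHom.ker (χ (k := k) A p B q) :=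
      (key r hr₁ rfl rfl)
    have hP' : r'.comap (algebraMap L C) = P := by
      rw [← IsLocalization.map_under 𝔪.primeCompl L (r'.comap (algebraMap L C)),
        ← IsLocalization.map_under 𝔪.primeCompl L P, Ideal.under_def, Ideal.under_def, hP]
      exact congrArg _ (key r' hr₂ e1.symm e2.symm)
    haveI : P.IsPrime := inferInstanceAs (r.comap (algebraMap L C)).IsPrime
    let PC := P.map (algebraMap L C)
    have hPC : PC ≤ r := Ideal.map_comap_le
    have hPC' : PC ≤ r' := Ideal.map_le_iff_le_comap.mpr hP'.ge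
    haveI : IsLocalRing (L ⧸ P) := IsLocalRing.of_surjective' _ Ideal.Quotient.mk_surjective
    haveI : Nontrivial (C ⧸ PC) := Ideal.Quotient.nontrivial_iff.mpr fun h =>
      Ideal.IsPrime.ne_top (I := r) inferInstance (top_le_iff.mp (h ▸ hPC))
    haveI : IsLocalRing (C ⧸ PC) := IsLocalRing.of_surjective' _ Ideal.Quotient.mk_surjective
    haveI : IsLocalHom (algebraMap (L ⧸ P) (C ⧸ PC)) := ⟨fun x hx => by
      obtain ⟨a, rfl⟩ := Ideal.Quotient.mk_surjective x
      haveI : IsLocalHom (Ideal.Quotient.mk PC) := IsLocalHom.of_surjective _ Ideal.Quotient.mk_surjective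
      change IsUnit (Ideal.Quotient.mk PC (algebraMap L C a)) at hx
      exact (isUnit_of_map_unit (algebraMap L C) a (isUnit_of_map_unit (Ideal.Quotient.mk PC) _ hx)).map _⟩
    haveI := Groth.L23.SH.isStrictHenselization_quotient (A := L) (S := C) P
    obtain ⟨M, -, hMu⟩ := (Groth.L23.SH.isGeomUnibranch_iff_uniqueMinimal (A := L ⧸ P) (S := C ⧸ PC)).mp
      (isGeomUnibranch_quotient A hA p B hB q 𝔪 hl hr P hP (hker p q))
    have hmq : ∀ s : Ideal C, s ∈ minimalPrimes C → PC ≤ s → s.map (Ideal.Quotient.mk PC) ∈ minimalPrimes (C ⧸ PC) ∧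
        (s.map (Ideal.Quotient.mk PC)).comap (Ideal.Quotient.mk PC) = s := fun s hs hle => by
      haveI := hs.1.1
      refine ⟨⟨⟨Ideal.map_isPrime_of_surjective Ideal.Quotient.mk_surjective (by rwa [Ideal.mk_ker]), bot_le⟩,
        fun T hT hTle => ?_⟩, ?_⟩
      · haveI := hT.1
        have h1 : T.comap (Ideal.Quotient.mk PC) ≤ s := by
          refine (Ideal.comap_mono hTle).trans_eq ?_
          rw [Ideal.comap_map_of_surjective _ Ideal.Quotient.mk_surjective, ← RingHom.ker_eq_comap_bot,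
            Ideal.mk_ker, sup_eq_left.mpr hle]
        exact Ideal.map_le_iff_le_comap.mpr (hs.2 ⟨inferInstance, bot_le⟩ h1)
      · rw [Ideal.comap_map_of_surjective _ Ideal.Quotient.mk_surjective, ← RingHom.ker_eq_comap_bot,
          Ideal.mk_ker, sup_eq_left.mpr hle]
    rw [← (hmq r hr₁ hPC).2, hMu _ (hmq r hr₁ hPC).1, ← (hmq r' hr₂ hPC').2, hMu _ (hmq r' hr₂ hPC').1]
  · rintro ⟨p, q⟩ ⟨hp, hq⟩
    haveI := hp.1.1
    haveI := hq.1.1
    haveI := isDomain_target (k := k) A p B q
    let K := RingHom.ker (χ (k := k) A p B q)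
    haveI : K.IsPrime := RingHom.ker_isPrime _
    have hd : Disjoint (𝔪.primeCompl : Set (A ⊗[k] B)) K :=
      Set.disjoint_left.mpr fun x hx hxK => hx (hker p q hxK)
    haveI : (K.map (algebraMap (A ⊗[k] B) L)).IsPrime :=
      IsLocalization.isPrime_of_isPrime_disjoint 𝔪.primeCompl L K inferInstance hd
    obtain ⟨r₀, hr₀⟩ := PrimeSpectrum.comap_surjective_of_faithfullyFlat (A := L) (B := C)
      ⟨K.map (algebraMap (A ⊗[k] B) L), inferInstance⟩
    obtain ⟨r, hr', hle⟩ := Ideal.exists_minimalPrimes_le (I := (⊥ : Ideal C)) (J := r₀.asIdeal) bot_le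
    have hK : r.comap (algebraMap (A ⊗[k] B) C) ≤ K := by
      intro x hx
      have h1 : algebraMap (A ⊗[k] B) L x ∈ K.map (algebraMap (A ⊗[k] B) L) := by
        rw [show K.map (algebraMap (A ⊗[k] B) L) = r₀.asIdeal.comap (algebraMap L C) from
          (congrArg PrimeSpectrum.asIdeal hr₀).symm]
        exact hle hx
      rw [← IsLocalization.under_map_of_isPrime_disjoint 𝔪.primeCompl L (I := K) inferInstance hd]
      exact h1
    haveI := hr'.1.1
    refine ⟨r, hr', Prod.ext ?_ ?_⟩
    · have h1 : (r.comap (algebraMap (A ⊗[k] B) C)).comap eL ≤ p :=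
        (Ideal.comap_mono hK).trans (comap_includeLeft A B p q).le
      exact le_antisymm h1 (hp.2 ⟨inferInstanceAs ((r.comap (algebraMap (A ⊗[k] B) C)).comap eL).IsPrime, bot_le⟩ h1)
    · have h1 : (r.comap (algebraMap (A ⊗[k] B) C)).comap eR ≤ q :=
        (Ideal.comap_mono hK).trans (comap_includeRight A B p q).le
      exact le_antisymm h1 (hq.2 ⟨inferInstanceAs ((r.comap (algebraMap (A ⊗[k] B) C)).comap eR).IsPrime, bot_le⟩ h1)

end Groth.L05.TensorBranch
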