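import Groth.Agent.L06.NormalTensorDomains
import Groth.Agent.L06.Unibranch
import Groth.Agent.L25.GeomIrred
import Groth.Agent.L05.Hensel.IntegralDomain
import Mathlib.RingTheory.LocalProperties.IntegrallyClosed
import Mathlib.RingTheory.Nilpotent.GeometricallyReduced

/-!
# Branches of tensor products of henselian local algebras over an algebraically closed field
-/

set_option autoImplicit false
set_option maxSynthPendingDepth 3
set_option linter.style.haveILetI false

universe u

open IsLocalRing TensorProduct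

namespace Groth.L05.TensorBranch

variable {k : Type u} [Field k] [IsAlgClosed k]

theorem isGeometricallyReduced_of_isDomain (F : Type u) [CommRing F] [IsDomain F] [Algebra k F] :
    Algebra.IsGeometricallyReduced k F := by
  haveI := Groth.L25.GeomIrred.isDomain_tensorProduct (k := k) (A := AlgebraicClosure k) (B := F)
  exact (Algebra.isGeometricallyReduced_field_iff k F).mpr inferInstance

theorem isIntegrallyClosed_tensor (A B : Type u) [CommRing A] [CommRing B] [IsDomain A] [IsDomain B]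
    [IsIntegrallyClosed A] [IsIntegrallyClosed B] [Algebra k A] [Algebra k B] [IsDomain (A ⊗[k] B)] :
    IsIntegrallyClosed (A ⊗[k] B) := by
  haveI := isGeometricallyReduced_of_isDomain (k := k) (FractionRing A)
  haveI := isGeometricallyReduced_of_isDomain (k := k) (FractionRing B)
  have h := Groth.L06.NormalTensor.normal_tensor_domains (k := k) A B
  exact IsIntegrallyClosed.of_localization_maximal fun p _ hp => (h p).2

variable (A : Type u) [CommRing A] [HenselianLocalRing A] [Algebra k A]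
  (hA : Function.Bijective ((residue A).comp (algebraMap k A))) (p : Ideal A) [p.IsPrime]

/-- The normalization of an integral quotient. -/
abbrev Nm : Type u := integralClosure (A ⧸ p) (FractionRing (A ⧸ p))

/-- The map to the normalization. -/
noncomputable def toNm : A →ₐ[k] Nm A p :=
  (IsScalarTower.toAlgHom k (A ⧸ p) (Nm A p)).comp (Ideal.Quotient.mkₐ k p)

theorem ker_toNm : RingHom.ker (toNm (k := k) A p) = p := by
  ext x
  show algebraMap (A ⧸ p) (Nm A p) (Ideal.Quotient.mk p x) = 0 ↔ _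
  rw [map_eq_zero_iff _ (fun a b h => IsFractionRing.injective (A ⧸ p) (FractionRing (A ⧸ p))
    (congrArg Subtype.val h)), Ideal.Quotient.eq_zero_iff_mem]

theorem isIntegral_toNm : (toNm (k := k) A p).toRingHom.IsIntegral :=
  RingHom.IsIntegral.trans _ _ (RingHom.isIntegral_of_surjective _ Ideal.Quotient.mk_surjective)
    (algebraMap_isIntegral_iff.mpr inferInstance)

theorem birational_toNm (x : Nm A p) :
    ∃ b a : A, toNm (k := k) A p b ≠ 0 ∧ toNm (k := k) A p b * x = toNm (k := k) A p a := by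
  obtain ⟨⟨a, b, hb⟩, he⟩ := IsLocalization.surj (nonZeroDivisors (A ⧸ p)) (x.1 : FractionRing (A ⧸ p))
  obtain ⟨a, rfl⟩ := Ideal.Quotient.mk_surjective a
  obtain ⟨b, rfl⟩ := Ideal.Quotient.mk_surjective b
  refine ⟨b, a, fun h => ?_, Subtype.ext ?_⟩
  · have : b ∈ p := ker_toNm (k := k) A p ▸ (h : b ∈ RingHom.ker (toNm (k := k) A p))
    exact nonZeroDivisors.ne_zero hb (Ideal.Quotient.eq_zero_iff_mem.mpr this)
  · exact (mul_comm _ _).trans he

theorem isLocalRing_nm : IsLocalRing (Nm A p) := by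
  letI : Algebra A (Nm A p) := ((algebraMap (A ⧸ p) (Nm A p)).comp (Ideal.Quotient.mk p)).toAlgebra
  haveI : Algebra.IsIntegral A (Nm A p) := algebraMap_isIntegral_iff.mp
    (RingHom.IsIntegral.trans _ _ (RingHom.isIntegral_of_surjective _ Ideal.Quotient.mk_surjective)
      (algebraMap_isIntegral_iff.mpr inferInstance))
  exact Groth.L05.isLocalRing_of_integral_domain (A := A) (Nm A p)

include hA in
/-- Elements of the normalization are constant at the closed point. -/
theorem exists_const (P : Ideal (Nm A p)) [P.IsMaximal] (x : Nm A p) :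
    ∃ c : k, x - algebraMap k (Nm A p) c ∈ P := by
  letI := Ideal.Quotient.field P
  haveI : (P.comap (toNm (k := k) A p).toRingHom).IsMaximal :=
    Ideal.isMaximal_comap_of_isIntegral_of_isMaximal' _ (isIntegral_toNm (k := k) A p) P
  have hm : P.comap (toNm (k := k) A p).toRingHom = maximalIdeal A := IsLocalRing.eq_maximalIdeal inferInstance
  haveI : Algebra.IsIntegral k (Nm A p ⧸ P) := ⟨fun y => by
    obtain ⟨y, rfl⟩ := Ideal.Quotient.mk_surjective y
    obtain ⟨f, hf, hfy⟩ := isIntegral_toNm (k := k) A p y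
    let e := RingEquiv.ofBijective _ hA
    let g : A →+* k := e.symm.toRingHom.comp (residue A)
    have hg : (algebraMap k (Nm A p ⧸ P)).comp g = (Ideal.Quotient.mk P).comp (toNm (k := k) A p).toRingHom := by
      refine RingHom.ext fun a => ?_
      have h1 : residue A (algebraMap k A (g a)) = residue A a := e.apply_symm_apply _
      have h2 : toNm (k := k) A p (algebraMap k A (g a) - a) ∈ P := by
        have : algebraMap k A (g a) - a ∈ P.comap (toNm (k := k) A p).toRingHom := by
          rw [hm, ← residue_eq_zero_iff, map_sub, h1, sub_self]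
        exact this
      rw [map_sub, AlgHom.commutes, ← Ideal.Quotient.eq] at h2
      exact h2
    refine ⟨f.map g, hf.map _, ?_⟩
    rw [Polynomial.eval₂_map, hg, ← Polynomial.hom_eval₂, hfy, map_zero]⟩
  obtain ⟨c, hc⟩ := (IsAlgClosed.algebraMap_bijective_of_isIntegral (k := k) (K := Nm A p ⧸ P)).2
    (Ideal.Quotient.mk P x)
  exact ⟨c, Ideal.Quotient.eq.mp hc.symm⟩

theorem isIntegrallyClosed_nm : IsIntegrallyClosed (Nm A p) :=
  integralClosure.isIntegrallyClosedOfFiniteExtension (FractionRing (A ⧸ p)) (L := FractionRing (A ⧸ p))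

section Pair

variable (B : Type u) [CommRing B] [HenselianLocalRing B] [Algebra k B]
  (hB : Function.Bijective ((residue B).comp (algebraMap k B))) (q : Ideal B) [q.IsPrime]

/-- The map to the tensor product of the normalizations. -/
noncomputable def χ : A ⊗[k] B →ₐ[k] Nm A p ⊗[k] Nm B q :=
  Algebra.TensorProduct.map (toNm A p) (toNm B q)

theorem isDomain_target : IsDomain (Nm A p ⊗[k] Nm B q) := Groth.L25.GeomIrred.isDomain_tensorProduct

theorem isIntegral_χ : (χ (k := k) A p B q).toRingHom.IsIntegral := by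
  intro x
  induction x using TensorProduct.induction_on with
  | zero => exact RingHom.isIntegralElem_zero _
  | add x y hx hy => exact RingHom.IsIntegralElem.add _ hx hy
  | tmul x y =>
    rw [show x ⊗ₜ[k] y = (x ⊗ₜ[k] (1 : Nm B q)) * ((1 : Nm A p) ⊗ₜ[k] y) by simp]
    refine RingHom.IsIntegralElem.mul _ ?_ ?_
    · obtain ⟨f, hf, hfx⟩ := isIntegral_toNm (k := k) A p x
      refine ⟨f.map (Algebra.TensorProduct.includeLeftRingHom (A := A) (B := B) (R := k)), hf.map _, ?_⟩
      rw [Polynomial.eval₂_map]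
      have : (χ (k := k) A p B q).toRingHom.comp Algebra.TensorProduct.includeLeftRingHom =
          Algebra.TensorProduct.includeLeftRingHom.comp (toNm (k := k) A p).toRingHom :=
        RingHom.ext fun a => by simp [χ]
      rw [this]
      exact (Polynomial.hom_eval₂ f _ _ x).symm.trans (by rw [hfx, map_zero])
    · obtain ⟨f, hf, hfy⟩ := isIntegral_toNm (k := k) B q y
      refine ⟨f.map (Algebra.TensorProduct.includeRight : B →ₐ[k] A ⊗[k] B).toRingHom, hf.map _, ?_⟩
      rw [Polynomial.eval₂_map]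
      have : (χ (k := k) A p B q).toRingHom.comp (Algebra.TensorProduct.includeRight : B →ₐ[k] A ⊗[k] B).toRingHom =
          (Algebra.TensorProduct.includeRight : Nm B q →ₐ[k] Nm A p ⊗[k] Nm B q).toRingHom.comp
            (toNm (k := k) B q).toRingHom :=
        RingHom.ext fun a => by simp [χ]
      rw [this]
      exact (Polynomial.hom_eval₂ f _ _ y).symm.trans (by rw [hfy, map_zero])

theorem birational_χ (x : Nm A p ⊗[k] Nm B q) : ∃ b a : A ⊗[k] B,
    χ (k := k) A p B q b ≠ 0 ∧ χ (k := k) A p B q b * x = χ (k := k) A p B q a := by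
  haveI := isDomain_target (k := k) A p B q
  induction x using TensorProduct.induction_on with
  | zero => exact ⟨1, 0, by simp, by simp⟩
  | add x y hx hy =>
    obtain ⟨b, a, hb, h⟩ := hx
    obtain ⟨b', a', hb', h'⟩ := hy
    refine ⟨b * b', a * b' + a' * b, by rw [map_mul]; exact mul_ne_zero hb hb', ?_⟩
    rw [map_mul, map_add, map_mul, map_mul, ← h, ← h']
    ring
  | tmul x y =>
    obtain ⟨b, a, hb, h⟩ := birational_toNm (k := k) A p x
    obtain ⟨b', a', hb', h'⟩ := birational_toNm (k := k) B q y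
    refine ⟨b ⊗ₜ b', a ⊗ₜ a', ?_, by simp [χ, h, h']⟩
    have e : χ A p B q (b ⊗ₜ[k] b') =
        (toNm (k := k) A p b ⊗ₜ[k] (1 : Nm B q)) * ((1 : Nm A p) ⊗ₜ[k] toNm (k := k) B q b') := by simp [χ]
    rw [e]
    refine mul_ne_zero (fun h0 => hb ?_) (fun h0 => hb' ?_)
    · exact (Algebra.TensorProduct.includeLeft_injective (S := k) (A := Nm A p) (B := Nm B q)
        (algebraMap k (Nm B q)).injective) (h0.trans (map_zero _).symm)
    · exact (Algebra.TensorProduct.includeRight_injective (A := Nm A p) (B := Nm B q)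
        (algebraMap k (Nm A p)).injective) (h0.trans (map_zero _).symm)

include hA hB in
/-- At most one prime of the normalization lies over the closed point, with trivial residue extension. -/
theorem unique_over {𝔪 : Ideal (A ⊗[k] B)}
    (hl : (maximalIdeal A).map (Algebra.TensorProduct.includeLeft : A →ₐ[k] A ⊗[k] B) ≤ 𝔪)
    (hr : (maximalIdeal B).map (Algebra.TensorProduct.includeRight : B →ₐ[k] A ⊗[k] B) ≤ 𝔪) :
    (∀ (Q : Ideal (Nm A p ⊗[k] Nm B q)) [Q.IsPrime], 𝔪 ≤ Q.comap (χ A p B q) →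
      ∀ t, ∃ c : k, t - algebraMap k _ c ∈ Q) ∧
    ∀ (Q Q' : Ideal (Nm A p ⊗[k] Nm B q)) [Q.IsPrime] [Q'.IsPrime], 𝔪 ≤ Q.comap (χ A p B q) →
      𝔪 ≤ Q'.comap (χ A p B q) → Q = Q' := by
  haveI := isLocalRing_nm A p
  haveI := isLocalRing_nm B q
  let iA : Nm A p →ₐ[k] Nm A p ⊗[k] Nm B q := Algebra.TensorProduct.includeLeft
  let iB : Nm B q →ₐ[k] Nm A p ⊗[k] Nm B q := Algebra.TensorProduct.includeRight
  have hA' : ∀ (Q : Ideal (Nm A p ⊗[k] Nm B q)) [Q.IsPrime], 𝔪 ≤ Q.comap (χ A p B q) →
      maximalIdeal (Nm A p) ≤ Q.comap iA := fun Q _ hQ => by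
    letI : Algebra A (Nm A p) := (toNm (k := k) A p).toRingHom.toAlgebra
    haveI : Algebra.IsIntegral A (Nm A p) := algebraMap_isIntegral_iff.mp (isIntegral_toNm (k := k) A p)
    refine (IsLocalRing.eq_maximalIdeal (Ideal.isMaximal_of_isIntegral_of_isMaximal_comap (R := A)
      (Q.comap iA) ?_)).ge
    have hle : maximalIdeal A ≤ (Q.comap iA).comap (algebraMap A (Nm A p)) := fun a ha => by
      have := hQ (hl (Ideal.mem_map_of_mem _ ha))
      simpa [iA, χ, RingHom.algebraMap_toAlgebra] using this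
    exact (IsLocalRing.maximalIdeal.isMaximal A).eq_of_le (Ideal.IsPrime.ne_top inferInstance) hle ▸
      IsLocalRing.maximalIdeal.isMaximal A
  have hB' : ∀ (Q : Ideal (Nm A p ⊗[k] Nm B q)) [Q.IsPrime], 𝔪 ≤ Q.comap (χ A p B q) →
      maximalIdeal (Nm B q) ≤ Q.comap iB := fun Q _ hQ => by
    letI : Algebra B (Nm B q) := (toNm (k := k) B q).toRingHom.toAlgebra
    haveI : Algebra.IsIntegral B (Nm B q) := algebraMap_isIntegral_iff.mp (isIntegral_toNm (k := k) B q)
    refine (IsLocalRing.eq_maximalIdeal (Ideal.isMaximal_of_isIntegral_of_isMaximal_comap (R := B)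
      (Q.comap iB) ?_)).ge
    have hle : maximalIdeal B ≤ (Q.comap iB).comap (algebraMap B (Nm B q)) := fun a ha => by
      have := hQ (hr (Ideal.mem_map_of_mem _ ha))
      simpa [iB, χ, RingHom.algebraMap_toAlgebra] using this
    exact (IsLocalRing.maximalIdeal.isMaximal B).eq_of_le (Ideal.IsPrime.ne_top inferInstance) hle ▸
      IsLocalRing.maximalIdeal.isMaximal B
  let M : Ideal (Nm A p ⊗[k] Nm B q) := (maximalIdeal (Nm A p)).map iA ⊔ (maximalIdeal (Nm B q)).map iB
  have hM : ∀ t, ∃ c : k, t - algebraMap k _ c ∈ M := by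
    intro t
    induction t using TensorProduct.induction_on with
    | zero => exact ⟨0, by simp⟩
    | add x y hx hy =>
      obtain ⟨c, hc⟩ := hx
      obtain ⟨d, hd⟩ := hy
      refine ⟨c + d, ?_⟩
      rw [map_add, show x + y - (algebraMap k _ c + algebraMap k _ d) =
        (x - algebraMap k _ c) + (y - algebraMap k _ d) by ring]
      exact add_mem hc hd
    | tmul x y =>
      obtain ⟨c, hc⟩ := exists_const A hA p (maximalIdeal (Nm A p)) x
      obtain ⟨d, hd⟩ := exists_const B hB q (maximalIdeal (Nm B q)) y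
      refine ⟨c * d, ?_⟩
      have h1 : iA (x - algebraMap k _ c) ∈ M := Ideal.mem_sup_left (Ideal.mem_map_of_mem _ hc)
      have h2 : iB (y - algebraMap k _ d) ∈ M := Ideal.mem_sup_right (Ideal.mem_map_of_mem _ hd)
      rw [map_sub, AlgHom.commutes] at h1 h2
      have e : x ⊗ₜ[k] y = iA x * iB y := by simp [iA, iB]
      rw [e, map_mul, show iA x * iB y - algebraMap k _ c * algebraMap k _ d =
        (iA x - algebraMap k _ c) * iB y + algebraMap k _ c * (iB y - algebraMap k _ d) by ring]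
      exact add_mem (M.mul_mem_right _ h1) (M.mul_mem_left _ h2)
  have hMQ : ∀ (Q : Ideal (Nm A p ⊗[k] Nm B q)) [Q.IsPrime], 𝔪 ≤ Q.comap (χ A p B q) → M ≤ Q :=
    fun Q _ hQ => sup_le (Ideal.map_le_iff_le_comap.mpr (hA' Q hQ)) (Ideal.map_le_iff_le_comap.mpr (hB' Q hQ))
  refine ⟨fun Q _ hQ t => ?_, fun Q Q' _ _ hQ hQ' => ?_⟩
  · obtain ⟨c, hc⟩ := hM t
    exact ⟨c, hMQ Q hQ hc⟩
  · have key : ∀ (Q : Ideal (Nm A p ⊗[k] Nm B q)) [Q.IsPrime], 𝔪 ≤ Q.comap (χ A p B q) → Q = M :=
      fun Q _ hQ => le_antisymm (fun t ht => by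
        obtain ⟨c, hc⟩ := hM t
        have hcQ : algebraMap k _ c ∈ Q := by simpa using sub_mem ht (hMQ Q hQ hc)
        by_cases hc0 : c = 0
        · simpa [hc0] using hc
        · exact (Ideal.IsPrime.ne_top (I := Q) inferInstance
            (Ideal.eq_top_of_isUnit_mem _ hcQ ((isUnit_iff_ne_zero.mpr hc0).map _))).elim) (hMQ Q hQ)
    exact (key Q hQ).trans (key Q' hQ').symm

include hA hB in
/-- The local quotient of the tensor product at a pair of primes is geometrically unibranch. -/
theorem isGeomUnibranch_quotient (𝔪 : Ideal (A ⊗[k] B)) [𝔪.IsPrime]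
    (hl : (maximalIdeal A).map (Algebra.TensorProduct.includeLeft : A →ₐ[k] A ⊗[k] B) ≤ 𝔪)
    (hr : (maximalIdeal B).map (Algebra.TensorProduct.includeRight : B →ₐ[k] A ⊗[k] B) ≤ 𝔪)
    (P : Ideal (Localization.AtPrime 𝔪)) [IsLocalRing (Localization.AtPrime 𝔪 ⧸ P)]
    (hP : P.comap (algebraMap (A ⊗[k] B) (Localization.AtPrime 𝔪)) = RingHom.ker (χ A p B q))
    (hker : RingHom.ker (χ A p B q) ≤ 𝔪) :
    CAlg2.IsGeomUnibranch (Localization.AtPrime 𝔪 ⧸ P) := by
  haveI := isDomain_target (k := k) A p B q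
  haveI := isIntegrallyClosed_nm A p
  haveI := isIntegrallyClosed_nm B q
  haveI := isIntegrallyClosed_tensor (k := k) (Nm A p) (Nm B q)
  let T := Nm A p ⊗[k] Nm B q
  let Z : Submonoid T := 𝔪.primeCompl.map (χ A p B q).toRingHom
  have hZ : Z ≤ nonZeroDivisors T := by
    rintro _ ⟨x, hx, rfl⟩
    exact mem_nonZeroDivisors_of_ne_zero fun h => hx (hker h)
  let N := Localization Z
  haveI : IsDomain N := IsLocalization.isDomain_localization hZ
  haveI : IsIntegrallyClosed N := isIntegrallyClosed_of_isLocalization (R := T) N Z hZ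
  let f₀ : Localization.AtPrime 𝔪 →+* N := IsLocalization.map N (χ A p B q).toRingHom
    (show 𝔪.primeCompl ≤ Z.comap _ from fun x hx => ⟨x, hx, rfl⟩)
  have hf₀ : ∀ x, f₀ (algebraMap _ _ x) = algebraMap T N (χ A p B q x) := fun x => IsLocalization.map_eq _ x
  have hinj : Function.Injective (algebraMap T N) := IsLocalization.injective N hZ
  have hPker : P = RingHom.ker f₀ := by
    rw [← IsLocalization.map_comap 𝔪.primeCompl (Localization.AtPrime 𝔪) P,
      ← IsLocalization.map_comap 𝔪.primeCompl (Localization.AtPrime 𝔪) (RingHom.ker f₀), Ideal.under_def, Ideal.under_def, hP]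
    congr 1
    ext x
    rw [Ideal.mem_comap, RingHom.mem_ker, RingHom.mem_ker, hf₀, map_eq_zero_iff _ hinj]
  let φ : Localization.AtPrime 𝔪 ⧸ P →+* N := Ideal.Quotient.lift P f₀ fun x hx => by rwa [hPker] at hx
  have hφ : ∀ x, φ (Ideal.Quotient.mk P x) = f₀ x := fun x => rfl
  have hunit : ∀ z : 𝔪.primeCompl, ∃ w : Localization.AtPrime 𝔪,
      algebraMap (A ⊗[k] B) _ (z : A ⊗[k] B) * w = 1 := fun z =>
    ⟨IsLocalization.mk' _ 1 z, by rw [IsLocalization.mul_mk'_eq_mk'_of_mul, mul_one, IsLocalization.mk'_self]⟩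
  have hdec : ∀ x : N, ∃ (t : T) (z : 𝔪.primeCompl),
      x * f₀ (algebraMap _ _ (z : A ⊗[k] B)) = algebraMap T N t := fun x => by
    obtain ⟨⟨t, ⟨_, z, hz, rfl⟩⟩, he⟩ := IsLocalization.surj Z x
    exact ⟨t, ⟨z, hz⟩, by rw [hf₀]; exact he⟩
  have hint : φ.IsIntegral := fun x => by
    obtain ⟨t, z, htz⟩ := hdec x
    obtain ⟨w, hw⟩ := hunit z
    obtain ⟨f, hf, hft⟩ := isIntegral_χ (k := k) A p B q t
    have h1 : φ.IsIntegralElem (algebraMap T N t) := by
      refine ⟨f.map ((Ideal.Quotient.mk P).comp (algebraMap _ _)), hf.map _, ?_⟩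
      rw [Polynomial.eval₂_map, show φ.comp ((Ideal.Quotient.mk P).comp (algebraMap _ _)) =
        (algebraMap T N).comp (χ A p B q).toRingHom from RingHom.ext hf₀, ← Polynomial.hom_eval₂, hft,
        map_zero]
    have h2 : φ.IsIntegralElem (φ (Ideal.Quotient.mk P w)) := RingHom.isIntegralElem_map _
    have h3 := RingHom.IsIntegralElem.mul _ h1 h2
    rwa [← htz, hφ, mul_assoc, ← map_mul, hw, map_one, mul_one] at h3
  have hker' : RingHom.ker φ ≤ nilradical (Localization.AtPrime 𝔪 ⧸ P) := fun x hx => by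
    obtain ⟨x, rfl⟩ := Ideal.Quotient.mk_surjective x
    have hx' : x ∈ RingHom.ker f₀ := hx
    rw [← hPker] at hx'
    rw [Ideal.Quotient.eq_zero_iff_mem.mpr hx']
    exact zero_mem _
  have hbir : ∀ x : N, ∃ b a, φ b ≠ 0 ∧ φ b * x = φ a := fun x => by
    obtain ⟨t, z, htz⟩ := hdec x
    obtain ⟨b, a, hb, hab⟩ := birational_χ (k := k) A p B q t
    refine ⟨Ideal.Quotient.mk P (algebraMap _ _ (b * z)), Ideal.Quotient.mk P (algebraMap _ _ a), ?_, ?_⟩
    · rw [hφ, hf₀, map_mul]
      exact (map_ne_zero_iff _ hinj).mpr (mul_ne_zero hb fun h => z.2 (hker h))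
    · rw [hφ, hφ, hf₀ a, ← hab, map_mul (algebraMap T N), ← htz, map_mul (algebraMap (A ⊗[k] B) _),
        map_mul f₀, hf₀ b]
      ring
  have hover : ∀ (M : Ideal N) [M.IsMaximal], 𝔪 ≤ (M.comap (algebraMap T N)).comap (χ A p B q) := by
    intro M _ a ha
    haveI : (M.comap φ).IsMaximal := Ideal.isMaximal_comap_of_isIntegral_of_isMaximal' _ hint M
    haveI : IsLocalHom (Ideal.Quotient.mk P) := IsLocalHom.of_surjective _ Ideal.Quotient.mk_surjective
    have : Ideal.Quotient.mk P (algebraMap _ _ a) ∈ M.comap φ := by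
      rw [IsLocalRing.eq_maximalIdeal ‹(M.comap φ).IsMaximal›, IsLocalRing.mem_maximalIdeal]
      exact fun hu => (IsLocalization.AtPrime.isUnit_to_map_iff (Localization.AtPrime 𝔪) 𝔪 a).mp
        (isUnit_of_map_unit _ _ hu) ha
    rw [Ideal.mem_comap, hφ, hf₀] at this
    exact this
  obtain ⟨hconst, huniq⟩ := unique_over A hA p B hB q hl hr
  refine (Groth.L06.Unibranch.isGeomUnibranch_iff φ hint hker' hbir).mpr ⟨?_, fun M _ x => ?_⟩
  · obtain ⟨M, hM⟩ := Ideal.exists_maximal N
    refine IsLocalRing.of_unique_max_ideal ⟨M, hM, fun M' hM' => ?_⟩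
    haveI := hM
    haveI := hM'
    rw [← IsLocalization.map_comap Z N M', ← IsLocalization.map_comap Z N M, Ideal.under_def, Ideal.under_def,
      huniq (M'.comap (algebraMap T N)) (M.comap (algebraMap T N)) (hover M') (hover M)]
  · obtain ⟨t, z, htz⟩ := hdec x
    obtain ⟨w, hw⟩ := hunit z
    obtain ⟨c, hc⟩ := hconst (M.comap (algebraMap T N)) (hover M) t
    refine ⟨0, Ideal.Quotient.mk P (algebraMap _ _ (algebraMap k (A ⊗[k] B) c) * w), ?_⟩
    rw [pow_zero, pow_one, hφ, map_mul, hf₀, AlgHom.commutes]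
    have h1 := M.mul_mem_right (f₀ w) hc
    rwa [map_sub, sub_mul, ← htz, mul_assoc, ← map_mul, hw, map_one, mul_one] at h1

end Pair

end Groth.L05.TensorBranch
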